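import Cfsg.Agent.H99.TensorU.Generate

/-!
Groups above the stabiliser of a tensor decomposition with second factor of dimension at least three.
-/

set_option autoImplicit false
set_option linter.unusedSectionVars false

namespace Cfsg.Agent.H78.Tensor23

open Matrix H99.TensorU
open H99.Tensor hiding Good Over
open scoped Kronecker

variable {F : Type*} [Field F] [StarRing F] {α : Type} [Fintype α] [DecidableEq α] {b : ℕ}

local notation "Ix" => α × Fin b

/-- The setting: a group of isometries above the stabiliser. -/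
structure Over (M : Subgroup (GL (α × Fin b) F)) : Prop where
  iso : ∀ y ∈ M, (y : Matrix (α × Fin b) (α × Fin b) F) * (y : Matrix (α × Fin b) (α × Fin b) F)ᴴ = 1
  det : ∀ y ∈ M, (y : Matrix (α × Fin b) (α × Fin b) F).det = 1
  pure : ∀ y : GL (α × Fin b) F, IsPure (y : Matrix (α × Fin b) (α × Fin b) F) →
    (y : Matrix (α × Fin b) (α × Fin b) F) * (y : Matrix (α × Fin b) (α × Fin b) F)ᴴ = 1 →
    (y : Matrix (α × Fin b) (α × Fin b) F).det = 1 → y ∈ M
  three : 3 ≤ b
  ns : ∃ x : F, star x ≠ x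

variable {M : Subgroup (GL (α × Fin b) F)} (H : Over M)
include H

theorem Over.unit {X : Matrix Ix Ix F} (hX : InM M X) : X * Xᴴ = 1 := by
  obtain ⟨y, hy, rfl⟩ := hX
  exact H.iso y hy

theorem Over.unit' {X : Matrix Ix Ix F} (hX : InM M X) : Xᴴ * X = 1 := mul_eq_one_comm.1 (H.unit hX)

theorem Over.inv {X : Matrix Ix Ix F} (hX : InM M X) : InM M Xᴴ := hX.inv (H.unit hX)

theorem Over.conj {A X : Matrix Ix Ix F} (hA : InM M (1 + A)) (hX : InM M X) : InM M (1 + X * A * Xᴴ) :=
  hA.conj hX (H.unit hX)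

theorem Over.of_pure (g : Matrix α α F) (h : Matrix (Fin b) (Fin b) F) (hu : (g ⊗ₖ h) * (g ⊗ₖ h)ᴴ = 1)
    (hd : (g ⊗ₖ h).det = 1) : InM M (g ⊗ₖ h) :=
  ⟨GeneralLinearGroup.mkOfDetNeZero (g ⊗ₖ h) (by rw [hd]; exact one_ne_zero), H.pure _ ⟨g, h, rfl⟩ hu hd, rfl⟩

theorem Over.right_factor (k : Matrix (Fin b) (Fin b) F) (hk : k * kᴴ = 1) (hd : k.det = 1) :
    InM M ((1 : Matrix α α F) ⊗ₖ k) :=
  H.of_pure _ _ (by rw [kron_conjTranspose, ← mul_kronecker_mul, hk, conjTranspose_one, Matrix.one_mul,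
    one_kronecker_one]) (by rw [det_kronecker, hd, det_one, one_pow, one_pow, one_mul])

theorem Over.left_factor (g : Matrix α α F) (hg : g * gᴴ = 1) (hd : g.det = 1) :
    InM M (g ⊗ₖ (1 : Matrix (Fin b) (Fin b) F)) :=
  H.of_pure _ _ (by rw [kron_conjTranspose, ← mul_kronecker_mul, hg, conjTranspose_one, Matrix.one_mul,
    one_kronecker_one]) (by rw [det_kronecker, hd, det_one, one_pow, one_pow, one_mul])

/-- The root elements of the second factor. -/
theorem Over.root {w η : Fin b → F} {c : F} (hw : sp w w = 0) (hη : sp w η = 0)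
    (hc : c + star c + sp η η = 0) : InM M (1 + (1 : Matrix α α F) ⊗ₖ nil w η c) := by
  rw [← one_kronecker_one (α := F) (m := α) (n := Fin b), ← kronecker_add]
  exact H.right_factor _ (root_unitary hw hη hc).1 (root_unitary hw hη hc).2

theorem Over.trans {w : Fin b → F} {d : F} (hw : sp w w = 0) (hd : star d = -d) :
    InM M (1 + (d • (1 : Matrix α α F)) ⊗ₖ vecMulVec w (star w)) := by
  have := H.root (η := 0) (c := d) hw (sp_zero_right w) (by rw [hd, sp_zero_left]; ring)
  rw [nil, star_zero, vecMulVec_zero, zero_vecMulVec, sub_zero, zero_add, kronecker_smul] at this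
  rwa [smul_kronecker]

/-- Two layers of the same isotropic vector multiply by addition. -/
theorem Over.lay_mul {w : Fin b → F} (hw : sp w w = 0) {G G' : Matrix α α F}
    (hG : InM M (1 + G ⊗ₖ vecMulVec w (star w))) (hG' : InM M (1 + G' ⊗ₖ vecMulVec w (star w))) :
    InM M (1 + (G + G') ⊗ₖ vecMulVec w (star w)) := by
  have := hG.mul hG'
  rwa [Matrix.add_mul, Matrix.one_mul, Matrix.mul_add, Matrix.mul_one, ← mul_kronecker_mul, vmv_mul, hw,
    zero_smul, kronecker_zero, add_zero, add_assoc, add_comm (G' ⊗ₖ _), ← add_kronecker] at this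

theorem Over.lay_neg {w : Fin b → F} (hw : sp w w = 0) {G : Matrix α α F}
    (hG : InM M (1 + G ⊗ₖ vecMulVec w (star w))) : InM M (1 + (-G) ⊗ₖ vecMulVec w (star w)) := by
  have := hG.neg (by rw [← mul_kronecker_mul, vmv_mul, hw, zero_smul, kronecker_zero])
  rwa [sub_eq_add_neg, show -(G ⊗ₖ vecMulVec w (star w)) = (-G) ⊗ₖ vecMulVec w (star w) by
    rw [← neg_one_smul F (G ⊗ₖ vecMulVec w (star w)), ← smul_kronecker, neg_one_smul]] at this

/-- The coefficient of a layer is skew. -/
theorem Over.lay_skew {w : Fin b → F} (hw0 : w ≠ 0) (hw : sp w w = 0) {G : Matrix α α F}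
    (hG : InM M (1 + G ⊗ₖ vecMulVec w (star w))) : Gᴴ = -G := by
  have h := H.unit hG
  rw [conjTranspose_add, conjTranspose_one, kron_conjTranspose, vmv_conjTranspose, Matrix.add_mul, Matrix.one_mul,
    Matrix.mul_add, Matrix.mul_one, ← mul_kronecker_mul, vmv_mul, hw, zero_smul, kronecker_zero, add_zero,
    add_assoc, add_eq_left, ← add_kronecker] at h
  obtain ⟨k, hk⟩ := Function.ne_iff.1 hw0
  ext i j
  have := congrFun (congrFun h (i, k)) (j, k)
  simp only [kronecker_apply, Matrix.add_apply, vecMulVec_apply, Pi.star_apply, Matrix.zero_apply, mul_eq_zero,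
    star_eq_zero, or_self] at this
  rw [Matrix.neg_apply]
  linear_combination this.resolve_right hk

/-- Layers are moved by the second factor. -/
theorem Over.lay_move [Finite F] {w w' : Fin b → F} {G : Matrix α α F} {d : F} (hw : sp w w = 0)
    (hw' : sp w' w' = 0) (h : sp w' w ≠ 0) (hd0 : d ≠ 0) (hd : star d = -d)
    (hG : InM M (1 + G ⊗ₖ vecMulVec w (star w))) :
    InM M (1 + (((d * sp w' w) * star (d * sp w' w)) • G) ⊗ₖ vecMulVec w' (star w')) := by
  obtain ⟨k, hk, hkd, hka⟩ := exists_move hw hw' h hd0 hd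
  have := H.conj hG (H.right_factor k hk hkd)
  rw [kron_conjTranspose, ← mul_kronecker_mul, ← mul_kronecker_mul, conjTranspose_one, Matrix.one_mul,
    Matrix.mul_one, vmv_conj, hka, vmv_smul_left, vmv_smul_right, smul_smul, kronecker_smul, ← smul_kronecker] at this
  exact this

end Cfsg.Agent.H78.Tensor23
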